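import Mathlib.Algebra.Homology.ShortComplex.Ab
import Mathlib.Algebra.Homology.ConcreteCategory
import Mathlib.Algebra.Category.Grp.EpiMono

/-!
# Isomorphisms on homology of complexes of abelian groups, elementwise
-/

universe u

open CategoryTheory Limits

namespace Groth.Agent.H30.E1

variable {ι : Type*} {c : ComplexShape ι} {K L : HomologicalComplex AddCommGrpCat.{u} c}

lemma homologyπ_eq_zero_iff (i j : ι) (hi : c.prev j = i) (z : K.cycles j) :
    K.homologyπ j z = 0 ↔ ∃ b, K.d i j b = K.iCycles j z := by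
  have hinj : Function.Injective (K.iCycles j) :=
    (AddCommGrpCat.mono_iff_injective _).1 inferInstance
  have hex := (ShortComplex.ab_exact_iff _).1 (ShortComplex.exact_of_g_is_cokernel
    (ShortComplex.mk (K.toCycles i j) (K.homologyπ j) (K.toCycles_comp_homologyπ i j))
    (K.homologyIsCokernel i j hi))
  constructor
  · intro h
    obtain ⟨b, hb⟩ := hex z h
    exact ⟨b, (ConcreteCategory.congr_hom (K.toCycles_i i j) b).symm.trans
      (congrArg (K.iCycles j) hb)⟩
  · rintro ⟨b, hb⟩
    have : z = K.toCycles i j b :=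
      hinj (hb.symm.trans (ConcreteCategory.congr_hom (K.toCycles_i i j) b).symm)
    rw [this]
    exact ConcreteCategory.congr_hom (K.toCycles_comp_homologyπ i j) b

/-- A map is an isomorphism on homology as soon as it is one on elements. -/
theorem isIso_homologyMap_of_elements (f : K ⟶ L) (i j k : ι) (hi : c.prev j = i) (hk : c.next j = k)
    (surj : ∀ z, L.d j k z = 0 → ∃ x b, K.d j k x = 0 ∧ f.f j x = z + L.d i j b)
    (inj : ∀ x, K.d j k x = 0 → (∃ b, L.d i j b = f.f j x) → ∃ a, K.d i j a = x) :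
    IsIso (HomologicalComplex.homologyMap f j) := by
  have hπ : ∀ (M : HomologicalComplex AddCommGrpCat.{u} c), Function.Surjective (M.homologyπ j) :=
    fun M => (AddCommGrpCat.epi_iff_surjective _).1 inferInstance
  have hi' : ∀ (M : HomologicalComplex AddCommGrpCat.{u} c), Function.Injective (M.iCycles j) :=
    fun M => (AddCommGrpCat.mono_iff_injective _).1 inferInstance
  have hnat : ∀ z, HomologicalComplex.homologyMap f j (K.homologyπ j z) =
      L.homologyπ j (HomologicalComplex.cyclesMap f j z) := fun z =>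
    ConcreteCategory.congr_hom (HomologicalComplex.homologyπ_naturality f j) z
  have hc : ∀ z, L.iCycles j (HomologicalComplex.cyclesMap f j z) = f.f j (K.iCycles j z) := fun z =>
    ConcreteCategory.congr_hom (HomologicalComplex.cyclesMap_i f j) z
  have hd : ∀ (M : HomologicalComplex AddCommGrpCat.{u} c) z, M.d j k (M.iCycles j z) = 0 :=
    fun M z => ConcreteCategory.congr_hom (M.iCycles_d j k) z
  rw [ConcreteCategory.isIso_iff_bijective]
  refine ⟨(injective_iff_map_eq_zero _).2 fun x hx => ?_, fun y => ?_⟩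
  · obtain ⟨z, rfl⟩ := hπ K x
    rw [hnat, homologyπ_eq_zero_iff i j hi] at hx
    obtain ⟨b, hb⟩ := hx
    obtain ⟨a, ha⟩ := inj _ (hd K z) ⟨b, hb.trans (hc z)⟩
    exact (homologyπ_eq_zero_iff i j hi z).2 ⟨a, ha⟩
  · obtain ⟨z, rfl⟩ := hπ L y
    obtain ⟨x, b, hx, hxb⟩ := surj _ (hd L z)
    obtain ⟨x', hx'⟩ : ∃ x', K.iCycles j x' = x :=
      (ShortComplex.ab_exact_iff _).1 (ShortComplex.exact_of_f_is_kernel
        (ShortComplex.mk (K.iCycles j) (K.d j k) (K.iCycles_d j k))
        (K.cyclesIsKernel j k hk)) x hx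
    refine ⟨K.homologyπ j x', ?_⟩
    rw [hnat, ← sub_eq_zero, ← map_sub, homologyπ_eq_zero_iff i j hi]
    exact ⟨b, by rw [map_sub, hc, hx', hxb, add_sub_cancel_left]⟩

end Groth.Agent.H30.E1
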