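import Mathlib.Algebra.Category.Grp.Basic
import Mathlib.Algebra.Group.Subgroup.Lattice
import Mathlib.GroupTheory.QuotientGroup.Basic
import Mathlib.Algebra.Category.Grp.Preadditive
import Mathlib.Algebra.Module.Basic
import Mathlib.Algebra.GroupWithZero.Action.Units
import Mathlib.Tactic.Abel

/-!
# Bicomplexes of abelian groups and their total complexes, elementwise

Elements of the total complex are families `∀ p q, X p q` supported on an antidiagonal.
-/

universe u

open CategoryTheory

namespace Groth.Agent.H30.E1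

/-- A first quadrant bicomplex with commuting squares. -/
structure Bicx where
  X : ℕ → ℕ → AddCommGrpCat.{u}
  h : ∀ p q, X p q →+ X (p + 1) q
  v : ∀ p q, X p q →+ X p (q + 1)
  hh : ∀ p q x, h (p + 1) q (h p q x) = 0
  vv : ∀ p q x, v p (q + 1) (v p q x) = 0
  comm : ∀ p q x, h p (q + 1) (v p q x) = v (p + 1) q (h p q x)

namespace Bicx

variable (D : Bicx.{u})

/-- All bigraded families. -/
abbrev G : Type u := ∀ p q : ℕ, D.X p q

/-- The horizontal part of the total differential. -/
def hG : D.G →+ D.G where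
  toFun c := fun
    | 0, _ => 0
    | p + 1, q => D.h p q (c p q)
  map_zero' := by funext p q; cases p <;> simp
  map_add' c c' := by funext p q; cases p <;> simp

/-- The vertical part of the total differential. -/
def vG : D.G →+ D.G where
  toFun c := fun p q => match q with
    | 0 => 0
    | q + 1 => ((-1 : ℤ) ^ p) • D.v p q (c p q)
  map_zero' := by funext p q; cases q <;> simp
  map_add' c c' := by funext p q; cases q <;> simp [smul_add]

/-- The total differential. -/
def tot : D.G →+ D.G := D.hG + D.vG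

variable {D}

@[simp] lemma hG_zero_left (c : D.G) (q : ℕ) : D.hG c 0 q = 0 := rfl
@[simp] lemma hG_succ (c : D.G) (p q : ℕ) : D.hG c (p + 1) q = D.h p q (c p q) := rfl
@[simp] lemma vG_zero_right (c : D.G) (p : ℕ) : D.vG c p 0 = 0 := rfl
@[simp] lemma vG_succ (c : D.G) (p q : ℕ) : D.vG c p (q + 1) = ((-1 : ℤ) ^ p) • D.v p q (c p q) := rfl
lemma tot_apply (c : D.G) (p q : ℕ) : D.tot c p q = D.hG c p q + D.vG c p q := rfl

lemma tot_tot (c : D.G) : D.tot (D.tot c) = 0 := by
  funext p q
  match p, q with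
  | 0, 0 => simp [tot_apply]
  | 0, 1 => simp [tot_apply]
  | 0, q + 2 => simp [tot_apply, D.vv]
  | 1, 0 => simp [tot_apply]
  | p + 2, 0 => simp [tot_apply, D.hh]
  | p + 1, q + 1 =>
    cases p <;> cases q <;>
      simp [tot_apply, D.comm, D.hh, D.vv, pow_succ]

variable (D)

/-- The families of total degree `n`. -/
def W (n : ℕ) : AddSubgroup D.G where
  carrier := {c | ∀ p q, p + q ≠ n → c p q = 0}
  zero_mem' := fun _ _ _ => rfl
  add_mem' ha hb := fun p q h => by simp [ha p q h, hb p q h]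
  neg_mem' ha := fun p q h => by simp [ha p q h]

/-- The families vanishing in horizontal degrees less than `k`. -/
def Fil (k : ℕ) : AddSubgroup D.G where
  carrier := {c | ∀ p q, p < k → c p q = 0}
  zero_mem' := fun _ _ _ => rfl
  add_mem' ha hb := fun p q h => by simp [ha p q h, hb p q h]
  neg_mem' ha := fun p q h => by simp [ha p q h]

/-- The families vanishing in vertical degrees less than `k`. -/
def FilV (k : ℕ) : AddSubgroup D.G where
  carrier := {c | ∀ p q, q < k → c p q = 0}
  zero_mem' := fun _ _ _ => rfl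
  add_mem' ha hb := fun p q h => by simp [ha p q h, hb p q h]
  neg_mem' ha := fun p q h => by simp [ha p q h]

variable {D}

lemma mem_W {c : D.G} {n : ℕ} : c ∈ D.W n ↔ ∀ p q, p + q ≠ n → c p q = 0 := Iff.rfl
lemma mem_Fil {c : D.G} {k : ℕ} : c ∈ D.Fil k ↔ ∀ p q, p < k → c p q = 0 := Iff.rfl
lemma mem_FilV {c : D.G} {k : ℕ} : c ∈ D.FilV k ↔ ∀ p q, q < k → c p q = 0 := Iff.rfl

lemma fil_zero (c : D.G) : c ∈ D.Fil 0 := fun _ _ h => absurd h (Nat.not_lt_zero _)
lemma filV_zero (c : D.G) : c ∈ D.FilV 0 := fun _ _ h => absurd h (Nat.not_lt_zero _)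

lemma fil_anti {k k' : ℕ} (h : k ≤ k') : D.Fil k' ≤ D.Fil k :=
  fun _ hc p q hp => hc p q (hp.trans_le h)

lemma tot_mem_W {c : D.G} {n : ℕ} (hc : c ∈ D.W n) : D.tot c ∈ D.W (n + 1) := by
  intro p q hpq
  rcases p with _ | p <;> rcases q with _ | q
  · simp [tot_apply]
  · simp [tot_apply, hc 0 q (by omega)]
  · simp [tot_apply, hc p 0 (by omega)]
  · simp [tot_apply, hc p (q + 1) (by omega), hc (p + 1) q (by omega)]

lemma tot_mem_Fil {c : D.G} {k : ℕ} (hc : c ∈ D.Fil k) : D.tot c ∈ D.Fil k := by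
  intro p q hp
  rcases p with _ | p <;> rcases q with _ | q <;> simp [tot_apply] <;>
    simp_all [mem_Fil, (Nat.lt_succ_self _).trans]

lemma tot_mem_FilV {c : D.G} {k : ℕ} (hc : c ∈ D.FilV k) : D.tot c ∈ D.FilV k := by
  intro p q hq
  rcases p with _ | p <;> rcases q with _ | q <;> simp [tot_apply] <;>
    simp_all [mem_FilV, (Nat.lt_succ_self _).trans]

variable (D)

/-- The family concentrated in one bidegree. -/
def single (p q : ℕ) (x : D.X p q) : D.G := fun i j =>
  if h : i = p ∧ j = q then h.1 ▸ h.2 ▸ x else 0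

variable {D}

@[simp] lemma single_self (p q : ℕ) (x : D.X p q) : D.single p q x p q = x := by simp [single]

lemma single_of_ne {p q i j : ℕ} (x : D.X p q) (h : ¬ (i = p ∧ j = q)) : D.single p q x i j = 0 :=
  dif_neg h

lemma single_mem_W (p q : ℕ) (x : D.X p q) : D.single p q x ∈ D.W (p + q) := fun _ _ h =>
  single_of_ne x fun e => h (by rw [e.1, e.2])

lemma single_mem_Fil (p q : ℕ) (x : D.X p q) : D.single p q x ∈ D.Fil p := fun _ _ h =>
  single_of_ne x fun e => absurd e.1 (ne_of_lt h)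

lemma single_mem_FilV (p q : ℕ) (x : D.X p q) : D.single p q x ∈ D.FilV q := fun _ _ h =>
  single_of_ne x fun e => absurd e.2 (ne_of_lt h)

lemma tot_single_v (p q : ℕ) (x : D.X p q) :
    D.tot (D.single p q x) p (q + 1) = ((-1 : ℤ) ^ p) • D.v p q x := by
  rcases p with _ | p <;> simp [tot_apply, single_of_ne]

lemma tot_single_h (p q : ℕ) (x : D.X p q) :
    D.tot (D.single p q x) (p + 1) q = D.h p q x := by
  rcases q with _ | q <;> simp [tot_apply, single_of_ne]

lemma eq_zero_of_W_of_Fil {c : D.G} {n k : ℕ} (hc : c ∈ D.W n) (hk : c ∈ D.Fil k) (h : n < k) :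
    c = 0 := funext fun p => funext fun q => by
  by_cases hp : p < k
  · exact hk p q hp
  · exact hc p q (by omega)

lemma eq_zero_of_W_of_FilV {c : D.G} {n k : ℕ} (hc : c ∈ D.W n) (hk : c ∈ D.FilV k) (h : n < k) :
    c = 0 := funext fun p => funext fun q => by
  by_cases hq : q < k
  · exact hk p q hq
  · exact hc p q (by omega)

/-- The columns (with their augmentation zero) are exact. -/
structure RowsAcyclic (D : Bicx.{u}) : Prop where
  zero : ∀ q x, D.h 0 q x = 0 → x = 0
  succ : ∀ p q x, D.h (p + 1) q x = 0 → ∃ y, D.h p q y = x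

lemma RowsAcyclic.zero_of (H : RowsAcyclic D) {c : D.G} (hc : c ∈ D.W 0) (h : D.tot c = 0) :
    c = 0 := by
  have h0 : c 0 0 = 0 := H.zero 0 _ (by simpa [tot_apply] using congrFun (congrFun h 1) 0)
  funext p q
  by_cases hpq : p + q = 0
  · obtain ⟨rfl, rfl⟩ : p = 0 ∧ q = 0 := by omega
    exact h0
  · exact hc p q hpq

lemma RowsAcyclic.exact (H : RowsAcyclic D) : ∀ (m n k : ℕ) (c : D.G), n + 2 ≤ m + k →
    c ∈ D.W (n + 1) → c ∈ D.FilV k → D.tot c = 0 → ∃ b, b ∈ D.W n ∧ D.tot b = c
  | 0, n, k, c, hk, hW, hF, _ => ⟨0, zero_mem _, by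
      rw [map_zero, eq_zero_of_W_of_FilV hW hF (by omega)]⟩
  | m + 1, n, k, c, hk, hW, hF, hd => by
    by_cases hkn : n + 1 < k
    · exact ⟨0, zero_mem _, by rw [map_zero, eq_zero_of_W_of_FilV hW hF hkn]⟩
    obtain ⟨p, hp⟩ : ∃ p, p + k = n + 1 := ⟨n + 1 - k, by omega⟩
    have hz : D.h p k (c p k) = 0 := by
      have := congrFun (congrFun hd (p + 1)) k
      rcases k with _ | k
      · simpa [tot_apply] using this
      · simpa [tot_apply, hF (p + 1) k (Nat.lt_succ_self k)] using this
    rcases p with _ | p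
    · refine exact H m n (k + 1) c (by omega) hW (fun i j hj => ?_) hd
      rcases Nat.lt_succ_iff_lt_or_eq.1 hj with hj | rfl
      · exact hF i j hj
      · by_cases hi : i = 0
        · subst hi; exact H.zero _ _ hz
        · exact hW i _ (by omega)
    · obtain ⟨y, hy⟩ := H.succ p k (c (p + 1) k) hz
      have hW' : c - D.tot (D.single p k y) ∈ D.W (n + 1) :=
        sub_mem hW (tot_mem_W ((show p + k = n by omega) ▸ single_mem_W p k y))
      have hF' : c - D.tot (D.single p k y) ∈ D.FilV (k + 1) := fun i j hj => by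
        rcases Nat.lt_succ_iff_lt_or_eq.1 hj with hj | rfl
        · exact sub_mem hF (tot_mem_FilV (single_mem_FilV p k y)) i j hj
        · by_cases hi : i = p + 1
          · subst hi
            simp [tot_single_h, hy]
          · exact hW' i _ (by omega)
      obtain ⟨b, hb, e⟩ := exact H m n (k + 1) _ (by omega) hW' hF' (by
        rw [map_sub, hd, tot_tot, sub_zero])
      refine ⟨b + D.single p k y, add_mem hb ((show p + k = n by omega) ▸ single_mem_W p k y), ?_⟩
      rw [map_add, e, sub_add_cancel]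

variable {D' : Bicx.{u}}

/-- A morphism of bicomplexes. -/
structure Hom (D D' : Bicx.{u}) where
  f : ∀ p q, D.X p q →+ D'.X p q
  fh : ∀ p q x, f (p + 1) q (D.h p q x) = D'.h p q (f p q x)
  fv : ∀ p q x, f p (q + 1) (D.v p q x) = D'.v p q (f p q x)

namespace Hom

variable (φ : Hom D D')

/-- The action on families. -/
def map : D.G →+ D'.G where
  toFun c p q := φ.f p q (c p q)
  map_zero' := by funext p q; simp
  map_add' c c' := by funext p q; simp

lemma map_apply (c : D.G) (p q : ℕ) : φ.map c p q = φ.f p q (c p q) := rfl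

lemma map_tot (c : D.G) : φ.map (D.tot c) = D'.tot (φ.map c) := by
  funext p q
  rcases p with _ | p <;> rcases q with _ | q <;>
    simp [map_apply, tot_apply, φ.fh, φ.fv]

lemma map_mem_W {c : D.G} {n : ℕ} (hc : c ∈ D.W n) : φ.map c ∈ D'.W n := fun p q h => by
  simp [map_apply, hc p q h]

lemma map_mem_Fil {c : D.G} {k : ℕ} (hc : c ∈ D.Fil k) : φ.map c ∈ D'.Fil k := fun p q h => by
  simp [map_apply, hc p q h]

lemma map_single (p q : ℕ) (x : D.X p q) : φ.map (D.single p q x) = D'.single p q (φ.f p q x) := by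
  funext i j
  by_cases h : i = p ∧ j = q
  · obtain ⟨rfl, rfl⟩ := h; simp [map_apply]
  · simp [map_apply, single_of_ne _ h]

/-- The morphism is a quasi-isomorphism on each column. -/
structure ColQis : Prop where
  inj_zero : ∀ p x, D.v p 0 x = 0 → φ.f p 0 x = 0 → x = 0
  inj : ∀ p q x, D.v p (q + 1) x = 0 → (∃ y', D'.v p q y' = φ.f p (q + 1) x) →
    ∃ y, D.v p q y = x
  surj_zero : ∀ p x', D'.v p 0 x' = 0 → ∃ x, D.v p 0 x = 0 ∧ φ.f p 0 x = x'
  surj : ∀ p q x', D'.v p (q + 1) x' = 0 →
    ∃ x y', D.v p (q + 1) x = 0 ∧ φ.f p (q + 1) x = x' + D'.v p q y'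

variable {φ}

lemma ColQis.totInj_zero (H : φ.ColQis) {c : D.G} (hc : c ∈ D.W 0) (hd : D.tot c = 0)
    (h : φ.map c = 0) : c = 0 := by
  have h0 : c 0 0 = 0 := H.inj_zero 0 _ (by simpa [tot_apply] using congrFun (congrFun hd 0) 1)
    (congrFun (congrFun h 0) 0)
  funext p q
  by_cases hpq : p + q = 0
  · obtain ⟨rfl, rfl⟩ : p = 0 ∧ q = 0 := by omega
    exact h0
  · exact hc p q hpq

lemma smul_neg_one_pow_self {M : Type*} [AddCommGroup M] (p : ℕ) (x : M) :
    ((-1 : ℤ) ^ p) • ((-1 : ℤ) ^ p) • x = x := by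
  rw [smul_smul, ← mul_pow]; simp

lemma ColQis.totInj (H : φ.ColQis) : ∀ (m n k : ℕ) (c : D.G) (b' : D'.G), n + 2 ≤ m + k →
    c ∈ D.W (n + 1) → b' ∈ D'.W n → c ∈ D.Fil k → b' ∈ D'.Fil k → D.tot c = 0 →
      φ.map c = D'.tot b' → ∃ b, b ∈ D.W n ∧ D.tot b = c
  | 0, n, k, c, b', hk, hW, _, hF, _, _, _ => ⟨0, zero_mem _, by
      rw [map_zero, eq_zero_of_W_of_Fil hW hF (by omega)]⟩
  | m + 1, n, k, c, b', hk, hW, hW', hF, hF', hd, he => by
    by_cases hkn : n + 1 < k
    · exact ⟨0, zero_mem _, by rw [map_zero, eq_zero_of_W_of_Fil hW hF hkn]⟩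
    obtain ⟨q, hq⟩ : ∃ q, k + q = n + 1 := ⟨n + 1 - k, by omega⟩
    have hz : D.v k q (c k q) = 0 := by
      have := congrFun (congrFun hd k) (q + 1)
      rcases k with _ | k
      · simpa [tot_apply] using this
      · simpa [tot_apply, hF k (q + 1) (Nat.lt_succ_self k), ← smul_right_inj
          (show ((-1 : ℤ) ^ (k + 1)) ≠ 0 by simp)] using this
    have he' := congrFun (congrFun he k) q
    rcases q with _ | q
    · have hb : b' = 0 := eq_zero_of_W_of_Fil hW' hF' (by omega)
      subst hb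
      rw [map_zero] at he he'
      refine totInj H m n (k + 1) c 0 (by omega) hW (zero_mem _) (fun i j hi => ?_) (zero_mem _) hd
        (by rw [map_zero]; exact he)
      rcases Nat.lt_succ_iff_lt_or_eq.1 hi with hi | rfl
      · exact hF i j hi
      · by_cases hj : j = 0
        · subst hj; exact H.inj_zero _ _ hz he'
        · exact hW _ j (by omega)
    · have e1 : φ.f k (q + 1) (c k (q + 1)) = ((-1 : ℤ) ^ k) • D'.v k q (b' k q) := by
        rcases k with _ | k
        · simpa [map_apply, tot_apply] using he'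
        · simpa [map_apply, tot_apply, hF' k (q + 1) (Nat.lt_succ_self k)] using he'
      obtain ⟨a, ha⟩ := H.inj k q _ hz ⟨((-1 : ℤ) ^ k) • b' k q, by rw [map_zsmul, e1]⟩
      have hz' : D'.v k q (φ.f k q (((-1 : ℤ) ^ k) • a) - b' k q) = 0 := by
        rw [map_sub, map_zsmul, map_zsmul, ← φ.fv, ha, e1, smul_neg_one_pow_self, sub_self]
      obtain ⟨z, w, hz1, hz2, hw⟩ : ∃ (z : D.X k q) (w : D'.G), D.v k q z = 0 ∧
          w ∈ D'.Fil k ∧ (∀ n', k + q = n' → D'.tot w ∈ D'.W n') ∧
          φ.f k q z = φ.f k q (((-1 : ℤ) ^ k) • a) - b' k q + D'.tot w k q := by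
        rcases q with _ | q
        · obtain ⟨z, h1, h2⟩ := H.surj_zero k _ hz'
          exact ⟨z, 0, h1, zero_mem _, fun n' _ => by rw [map_zero]; exact zero_mem _,
            by simp [h2]⟩
        · obtain ⟨z, y, h1, h2⟩ := H.surj k q _ hz'
          refine ⟨z, D'.single k q (((-1 : ℤ) ^ k) • y), h1, single_mem_Fil _ _ _, fun n' hn => ?_, ?_⟩
          · subst hn
            exact tot_mem_W (single_mem_W _ _ _)
          · rw [tot_single_v, h2, map_zsmul (D'.v k q), smul_neg_one_pow_self]
      obtain ⟨hw', hzw⟩ := hw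
      let a' := ((-1 : ℤ) ^ k) • a - z
      have ha' : φ.f k q a' = b' k q - D'.tot w k q := by
        simp only [a', map_sub, hzw]; abel
      have hn : k + q = n := by omega
      have hW1 : c - D.tot (D.single k q a') ∈ D.W (n + 1) :=
        sub_mem hW (tot_mem_W (hn ▸ single_mem_W k q a'))
      have hW1' : b' - φ.map (D.single k q a') - D'.tot w ∈ D'.W n :=
        sub_mem (sub_mem hW' (φ.map_mem_W (hn ▸ single_mem_W k q a'))) (hw' n hn)
      have hF1 : c - D.tot (D.single k q a') ∈ D.Fil (k + 1) := fun i j hi => by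
        rcases Nat.lt_succ_iff_lt_or_eq.1 hi with hi | rfl
        · exact sub_mem hF (tot_mem_Fil (single_mem_Fil k q a')) i j hi
        · by_cases hj : j = q + 1
          · subst hj
            simp only [Pi.sub_apply, tot_single_v, a', map_sub, map_zsmul, hz1, sub_zero, ha,
              smul_neg_one_pow_self, sub_self]
          · exact hW1 _ j (by omega)
      have hF1' : b' - φ.map (D.single k q a') - D'.tot w ∈ D'.Fil (k + 1) := fun i j hi => by
        rcases Nat.lt_succ_iff_lt_or_eq.1 hi with hi | rfl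
        · exact sub_mem (sub_mem hF' (φ.map_mem_Fil (single_mem_Fil k q a')))
            (tot_mem_Fil hz2) i j hi
        · by_cases hj : j = q
          · subst hj
            simp [map_single, ha']
          · exact hW1' _ j (by omega)
      obtain ⟨b, hb, e⟩ := totInj H m n (k + 1) _ _ (by omega) hW1 hW1' hF1 hF1'
        (by rw [map_sub, hd, tot_tot, sub_zero])
        (by simp [map_sub, he, map_tot, tot_tot])
      refine ⟨b + D.single k q a', add_mem hb (hn ▸ single_mem_W k q a'), ?_⟩
      rw [map_add, e, sub_add_cancel]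

lemma ColQis.exact (H : φ.ColQis) (H' : RowsAcyclic D') {n : ℕ} {c : D.G} (hc : c ∈ D.W (n + 1))
    (hd : D.tot c = 0) : ∃ b, b ∈ D.W n ∧ D.tot b = c := by
  obtain ⟨b', hb', e⟩ := H'.exact (n + 2) n 0 (φ.map c) (by omega) (φ.map_mem_W hc) (filV_zero _)
    (by rw [← φ.map_tot, hd, map_zero])
  exact H.totInj (n + 2) n 0 c b' (by omega) hc hb' (fil_zero _) (fil_zero _) hd e.symm

lemma ColQis.zero_of (H : φ.ColQis) (H' : RowsAcyclic D') {c : D.G} (hc : c ∈ D.W 0)
    (hd : D.tot c = 0) : c = 0 :=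
  H.totInj_zero hc hd (H'.zero_of (φ.map_mem_W hc) (by rw [← φ.map_tot, hd, map_zero]))

end Hom

end Bicx

end Groth.Agent.H30.E1
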