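import Groth.Agent.H30.E1.BicxSS

/-!
# Quotients and augmentations of bicomplexes
-/

universe u

open CategoryTheory Limits

namespace Groth.Agent.H30.E1.Bicx

variable (D : Bicx.{u})

/-- A family of subgroups stable under both differentials. -/
structure Stable (N : ∀ p q, AddSubgroup (D.X p q)) : Prop where
  h : ∀ p q x, x ∈ N p q → D.h p q x ∈ N (p + 1) q
  v : ∀ p q x, x ∈ N p q → D.v p q x ∈ N p (q + 1)

variable {D} {N : ∀ p q, AddSubgroup (D.X p q)}

/-- The quotient bicomplex. -/
def quot (hN : D.Stable N) : Bicx.{u} where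
  X p q := AddCommGrpCat.of (D.X p q ⧸ N p q)
  h p q := QuotientAddGroup.map (N p q) (N (p + 1) q) (D.h p q) (hN.h p q)
  v p q := QuotientAddGroup.map (N p q) (N p (q + 1)) (D.v p q) (hN.v p q)
  hh p q x := by
    induction x using QuotientAddGroup.induction_on with
    | _ x => exact (congrArg (QuotientAddGroup.mk' (N (p + 1 + 1) q)) (D.hh p q x)).trans (map_zero _)
  vv p q x := by
    induction x using QuotientAddGroup.induction_on with
    | _ x => exact (congrArg (QuotientAddGroup.mk' (N p (q + 1 + 1))) (D.vv p q x)).trans (map_zero _)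
  comm p q x := by
    induction x using QuotientAddGroup.induction_on with
    | _ x => exact congrArg (QuotientAddGroup.mk' (N (p + 1) (q + 1))) (D.comm p q x)

/-- The projection. -/
def proj (hN : D.Stable N) : Hom D (D.quot hN) where
  f p q := QuotientAddGroup.mk' (N p q)
  fh _ _ _ := rfl
  fv _ _ _ := rfl

lemma proj_eq_zero_iff (hN : D.Stable N) (c : D.G) :
    (proj hN).map c = 0 ↔ ∀ p q, c p q ∈ N p q := by
  refine ⟨fun h p q => ?_, fun h => funext fun p => funext fun q => ?_⟩
  · exact (QuotientAddGroup.eq_zero_iff (c p q)).1 (congrFun (congrFun h p) q)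
  · exact (QuotientAddGroup.eq_zero_iff (c p q)).2 (h p q)

lemma exists_lift (hN : D.Stable N) {n : ℕ} {c : (D.quot hN).G} (hc : c ∈ (D.quot hN).W n) :
    ∃ c' ∈ D.W n, (proj hN).map c' = c := by
  classical
  choose g hg using fun p q => QuotientAddGroup.mk'_surjective (N p q) (c p q)
  refine ⟨fun p q => if p + q = n then g p q else 0, fun p q h => if_neg h, ?_⟩
  funext p q
  rw [Hom.map_apply]
  split_ifs with h
  · exact hg p q
  · exact (map_zero _).trans (hc p q h).symm

variable {D' : Bicx.{u}}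

/-- A morphism killing the subgroups descends to the quotient. -/
def quotLift (hN : D.Stable N) (φ : Hom D D') (h : ∀ p q x, x ∈ N p q → φ.f p q x = 0) :
    Hom (D.quot hN) D' where
  f p q := QuotientAddGroup.lift (N p q) (φ.f p q) (h p q)
  fh p q x := by
    induction x using QuotientAddGroup.induction_on with
    | _ x => exact φ.fh p q x
  fv p q x := by
    induction x using QuotientAddGroup.induction_on with
    | _ x => exact φ.fv p q x

/-- Column quasi-isomorphisms out of a quotient, checked on representatives. -/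
theorem colQis_quotLift (hN : D.Stable N) (φ : Hom D D') (h : ∀ p q x, x ∈ N p q → φ.f p q x = 0)
    (i0 : ∀ p x, D.v p 0 x ∈ N p 1 → φ.f p 0 x = 0 → x ∈ N p 0)
    (i1 : ∀ p q x, D.v p (q + 1) x ∈ N p (q + 1 + 1) → ∀ y', D'.v p q y' = φ.f p (q + 1) x →
      ∃ y, x - D.v p q y ∈ N p (q + 1))
    (s0 : ∀ p x', D'.v p 0 x' = 0 → ∃ x, D.v p 0 x ∈ N p 1 ∧ φ.f p 0 x = x')
    (s1 : ∀ p q x', D'.v p (q + 1) x' = 0 →
      ∃ x y', D.v p (q + 1) x ∈ N p (q + 1 + 1) ∧ φ.f p (q + 1) x = x' + D'.v p q y') :
    (quotLift hN φ h).ColQis where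
  inj_zero p x := by
    induction x using QuotientAddGroup.induction_on with
    | _ x =>
      intro h1 h2
      exact (QuotientAddGroup.eq_zero_iff x).2 (i0 p x ((QuotientAddGroup.eq_zero_iff _).1 h1) h2)
  inj p q x := by
    induction x using QuotientAddGroup.induction_on with
    | _ x =>
      rintro h1 ⟨y', hy'⟩
      obtain ⟨y, hy⟩ := i1 p q x ((QuotientAddGroup.eq_zero_iff _).1 h1) y' hy'
      exact ⟨QuotientAddGroup.mk y, ((QuotientAddGroup.eq_iff_sub_mem).2 hy).symm⟩
  surj_zero p x' hx' := by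
    obtain ⟨x, h1, h2⟩ := s0 p x' hx'
    exact ⟨QuotientAddGroup.mk x, (QuotientAddGroup.eq_zero_iff _).2 h1, h2⟩
  surj p q x' hx' := by
    obtain ⟨x, y', h1, h2⟩ := s1 p q x' hx'
    exact ⟨QuotientAddGroup.mk x, y', (QuotientAddGroup.eq_zero_iff _).2 h1, h2⟩

variable (D)

/-- The bicomplex without its zeroth column. -/
abbrev tail : Bicx.{u} where
  X p q := D.X (p + 1) q
  h p q := D.h (p + 1) q
  v p q := D.v (p + 1) q
  hh p q := D.hh (p + 1) q
  vv p q := D.vv (p + 1) q
  comm p q := D.comm (p + 1) q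

/-- Reinsertion of the zeroth column as zero, with the sign making it a chain map. -/
def shift : D.tail.G →+ D.G where
  toFun b := fun
    | 0, _ => 0
    | p + 1, q => ((-1 : ℤ) ^ q) • b p q
  map_zero' := by funext p q; cases p <;> simp
  map_add' b b' := by
    funext p q
    cases p with
    | zero => simp
    | succ p => exact smul_add _ (b p q) (b' p q)

variable {D}

@[simp] lemma shift_zero_left (b : D.tail.G) (q : ℕ) : D.shift b 0 q = 0 := rfl
lemma shift_succ (b : D.tail.G) (p q : ℕ) : D.shift b (p + 1) q = ((-1 : ℤ) ^ q) • b p q := rfl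

lemma shift_injective : Function.Injective D.shift := fun b b' h => funext fun p => funext fun q => by
  have := congrArg (((-1 : ℤ) ^ q) • ·) (congrFun (congrFun h (p + 1)) q)
  simpa [shift_succ, Hom.smul_neg_one_pow_self] using this

lemma tot_shift (b : D.tail.G) : D.tot (D.shift b) = D.shift (D.tail.tot b) := by
  funext p q
  match p, q with
  | 0, 0 => simp [tot_apply]
  | 0, q + 1 => simp [tot_apply]
  | 1, 0 => simp [tot_apply, shift_succ]
  | p + 2, 0 => simp [tot_apply, shift_succ]
  | 1, q + 1 =>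
    simp [tot_apply, shift_succ, map_zsmul, pow_succ, smul_smul]
  | p + 2, q + 1 =>
    simp [tot_apply, shift_succ, map_zsmul, pow_succ, smul_smul, smul_add, mul_comm]

lemma shift_mem_W {b : D.tail.G} {n : ℕ} (hb : b ∈ D.tail.W n) : D.shift b ∈ D.W (n + 1) := by
  intro p q h
  cases p with
  | zero => rfl
  | succ p => rw [shift_succ, hb p q (by omega)]; exact smul_zero _

/-- The split off zeroth column. -/
lemma eq_single_add_shift {c : D.G} {n : ℕ} (hc : c ∈ D.W n) :
    ∃ b : D.tail.G, (∀ m, m + 1 = n → b ∈ D.tail.W m) ∧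
      c = D.single 0 n (c 0 n) + D.shift b := by
  refine ⟨fun p q => ((-1 : ℤ) ^ q) • c (p + 1) q, fun m hm p q h => ?_, ?_⟩
  · change ((-1 : ℤ) ^ q) • c (p + 1) q = 0
    rw [hc (p + 1) q (by omega), smul_zero]
  · funext p q
    cases p with
    | zero =>
      by_cases hq : q = n
      · subst hq; simp
      · simp [single_of_ne _ (fun e : 0 = 0 ∧ q = n => hq e.2), hc 0 q (by omega)]
    | succ p =>
      simp [single_of_ne, shift_succ]
      exact (Hom.smul_neg_one_pow_self q _).symm

lemma single_zero (p q : ℕ) : D.single p q (0 : D.X p q) = 0 := by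
  funext i j
  by_cases h : i = p ∧ j = q
  · obtain ⟨rfl, rfl⟩ := h; simp
  · exact single_of_ne _ h

/-- The augmentation of the total complex by the zeroth column. -/
noncomputable def augTot : colCx D 0 ⟶ totCx D.tail where
  f n := AddCommGrpCat.ofHom
    { toFun := fun x => ⟨D.tail.single 0 n (D.h 0 n x), single_mem_A D.tail 0 n _⟩
      map_zero' := Subtype.ext (by funext p q; by_cases h : p = 0 ∧ q = n <;> simp [single, h] <;>
        (obtain ⟨rfl, rfl⟩ := h; simp))
      map_add' := fun x y => Subtype.ext (by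
        funext p q
        by_cases h : p = 0 ∧ q = n
        · obtain ⟨rfl, rfl⟩ := h; simp
        · simp [single_of_ne _ h]) }
  comm' := by
    rintro n _ rfl
    simp only [colCx, totCx, CochainComplex.of_d]
    ext x : 2
    refine Subtype.ext ?_
    change D.tail.tot (D.tail.single 0 n (D.h 0 n x)) = D.tail.single 0 (n + 1) (D.h 0 (n + 1) (D.v 0 n x))
    funext p q
    by_cases h : p = 0 ∧ q = n + 1
    · obtain ⟨rfl, rfl⟩ := h
      simp [tot_single_v, D.comm]
    · rw [single_of_ne _ h]
      match p, q with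
      | 0, 0 => simp [tot_apply]
      | 0, q + 1 => simp [tot_apply, single_of_ne _ (fun e : 0 = 0 ∧ q = n => h ⟨rfl, by omega⟩)]
      | p + 1, q =>
        by_cases h' : p = 0 ∧ q = n
        · obtain ⟨rfl, rfl⟩ := h'
          rw [tot_single_h]
          exact D.hh 0 q x
        · cases q with
          | zero => simp [tot_apply, single_of_ne _ h']
          | succ q => simp [tot_apply, single_of_ne _ h', single_of_ne _ (fun e : p + 1 = 0 ∧ q = n => Nat.succ_ne_zero _ e.1)]

lemma colCx_d (p q : ℕ) : (colCx D p).d q (q + 1) = AddCommGrpCat.ofHom (D.v p q) := by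
  simp [colCx]

lemma totCx_d (n : ℕ) : (totCx D).d n (n + 1) = AddCommGrpCat.ofHom (dA D 0 n) := by
  simp [totCx]

lemma tot_single_zero (n : ℕ) (x : D.X 0 n) :
    D.tot (D.single 0 n x) =
      D.single 0 (n + 1) (D.v 0 n x) + ((-1 : ℤ) ^ n) • D.shift (D.tail.single 0 n (D.h 0 n x)) := by
  funext p q
  match p, q with
  | 0, 0 => simp [tot_apply, single_of_ne]
  | 0, q + 1 =>
    by_cases hq : q = n
    · subst hq; simp [tot_apply]
    · simp [tot_apply, single_of_ne _ (fun e : 0 = 0 ∧ q = n => hq e.2),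
        single_of_ne _ (fun e : 0 = 0 ∧ q + 1 = n + 1 => hq (by omega))]
  | 1, q =>
    by_cases hq : q = n
    · subst hq
      rw [tot_single_h]
      simp [shift_succ, single_of_ne, Hom.smul_neg_one_pow_self]
    · have h1 : ¬ ((0 : ℕ) = 0 ∧ q = n) := fun e => hq e.2
      cases q <;> simp [tot_apply, shift_succ, single_of_ne, h1, hq]
  | p + 2, q => cases q <;> simp [tot_apply, shift_succ, single_of_ne]

/-- An augmented bicomplex with exact total complex: the augmentation is a quasi-isomorphism. -/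
theorem isIso_augTot (hex : ∀ n c, c ∈ D.W (n + 1) → D.tot c = 0 → ∃ b, b ∈ D.W n ∧ D.tot b = c)
    (hinj : ∀ c, c ∈ D.W 0 → D.tot c = 0 → c = 0) (n : ℕ) :
    IsIso (HomologicalComplex.homologyMap (augTot (D := D)) n) := by
  have hWA : ∀ {m : ℕ} {b : D.tail.G}, b ∈ D.tail.W m → b ∈ D.tail.A 0 m := fun hb =>
    ⟨fun i j h => hb i j (by omega), fil_zero _⟩
  have hAW : ∀ {m : ℕ} {b : D.tail.G}, b ∈ D.tail.A 0 m → b ∈ D.tail.W m := fun hb i j h =>
    hb.1 i j (by omega)
  have surj : ∀ (z : D.tail.A 0 n), D.tail.tot z.1 = 0 → ∃ (x : D.X 0 n) (b : D.G),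
      D.v 0 n x = 0 ∧ b ∈ D.W n ∧ D.tot b = D.shift z.1 ∧ b 0 n = x := by
    intro z hz
    obtain ⟨b, hb, e⟩ := hex n (D.shift z.1) (shift_mem_W (hAW z.2))
      (by rw [tot_shift, hz, map_zero])
    refine ⟨b 0 n, b, ?_, hb, e, rfl⟩
    simpa [tot_apply] using congrFun (congrFun e 0) (n + 1)
  rcases n with _ | m
  · refine isIso_homologyMap_of_elements _ 0 0 1 (by simp) (by simp) (fun z hz => ?_)
      fun x hx h => ?_
    · rw [totCx_d] at hz
      obtain ⟨x, b, hx, hb, e, hbx⟩ := surj z (congrArg Subtype.val hz)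
      obtain ⟨b', -, hbb⟩ := eq_single_add_shift hb
      refine ⟨x, 0, by rw [colCx_d]; exact hx, ?_⟩
      rw [map_zero, add_zero]
      refine Subtype.ext (shift_injective ?_)
      have hb0 : b = D.single 0 0 x := by
        funext p q
        by_cases h : p = 0 ∧ q = 0
        · obtain ⟨rfl, rfl⟩ := h; simp [hbx]
        · rw [single_of_ne _ h, hb p q (by omega)]
      rw [← e, hb0, tot_single_zero, hx]
      change D.shift (D.tail.single 0 0 (D.h 0 0 x)) = _
      simp [single_zero]
    · obtain ⟨b, hb⟩ := h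
      rw [(totCx D.tail).shape 0 0 (by simp)] at hb
      rw [colCx_d] at hx
      have hh : D.tail.single 0 0 (D.h 0 0 x) = 0 := congrArg Subtype.val hb.symm
      have h0 := hinj _ (single_mem_W 0 0 x) (by
        rw [tot_single_zero, hh, map_zero, smul_zero, add_zero,
          show D.v 0 0 x = 0 from hx]
        exact single_zero 0 1)
      refine ⟨0, ?_⟩
      rw [map_zero]
      exact ((single_self 0 0 x).symm.trans (congrFun (congrFun h0 0) 0)).symm
  · refine isIso_homologyMap_of_elements _ m (m + 1) (m + 1 + 1) (by simp) (by simp)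
      (fun z hz => ?_) fun x hx h => ?_
    · rw [totCx_d] at hz
      obtain ⟨x, b, hx, hb, e, hbx⟩ := surj z (congrArg Subtype.val hz)
      obtain ⟨b', hb', hbb⟩ := eq_single_add_shift hb
      rw [hbx] at hbb
      let y : D.X 0 (m + 1) := ((-1 : ℤ) ^ (m + 1)) • x
      refine ⟨y, -⟨b', hWA (hb' m rfl)⟩, ?_, ?_⟩
      · rw [colCx_d]
        change D.v 0 (m + 1) y = 0
        rw [map_zsmul, hx, smul_zero]
      · rw [totCx_d, map_neg, ← sub_eq_add_neg]
        refine Subtype.ext (shift_injective ?_)
        change D.shift (D.tail.single 0 (m + 1) (D.h 0 (m + 1) y)) = D.shift (z.1 - D.tail.tot b')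
        rw [map_sub, ← tot_shift, ← e, hbb, map_add, tot_single_zero, hx, add_sub_cancel_right,
          ← map_zsmul D.shift]
        rw [single_zero]
        refine Eq.trans ?_ (zero_add _).symm
        congr 1
        funext p q
        by_cases h : p = 0 ∧ q = m + 1
        · obtain ⟨rfl, rfl⟩ := h; simp [y, map_zsmul]
        · simp [single_of_ne _ h]
    · obtain ⟨b, hb⟩ := h
      rw [colCx_d] at hx
      rw [totCx_d] at hb
      have hb' : D.tail.tot b.1 = D.tail.single 0 (m + 1) (D.h 0 (m + 1) x) := congrArg Subtype.val hb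
      have hW : D.single 0 (m + 1) x - ((-1 : ℤ) ^ (m + 1)) • D.shift b.1 ∈ D.W (m + 1) :=
        sub_mem (fun i j h => single_mem_W 0 (m + 1) x i j (by omega))
          (zsmul_mem (shift_mem_W (hAW b.2)) _)
      obtain ⟨a, ha, e⟩ := hex m _ hW (by
        rw [map_sub, map_zsmul, tot_shift, hb', tot_single_zero, show D.v 0 (m + 1) x = 0 from hx]
        rw [single_zero]
        exact sub_eq_zero.2 (zero_add _))
      refine ⟨a 0 m, ?_⟩
      rw [colCx_d]
      change D.v 0 m (a 0 m) = x
      simpa [tot_apply] using congrFun (congrFun e 0) (m + 1)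

end Groth.Agent.H30.E1.Bicx
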