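import Groth.Agent.H30.E1.Prepend
import Groth.Agent.Lib.SpecSeq.CxExt
import Groth.Agent.Lib.SpecSeq.Grothendieck
import Groth.Agent.Lib.SpecSeq.Composite

/-!
# First-page spectral sequences of double complexes with exact rows
-/

set_option linter.style.haveILetI false

universe u

open CategoryTheory Limits

namespace Groth.Agent.H30.E1

open Groth.Agent.Lib.SpecSeq

/-- `ℤ[0] → L` is the zeroth cohomology. -/
noncomputable def homIsoH0 :
    HomExt.homFunctor CxExt.X.{u} ≅ HomologicalComplex.homologyFunctor AddCommGrpCat.{u} (.up ℕ) 0 :=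
  NatIso.ofComponents
    (fun L => (AddEquiv.ofBijective (CxExt.ψ L) (CxExt.bijective_ψ L)).toAddCommGrpIso)
    (fun g => by
      ext f
      exact CxExt.ψ_comp f g)

variable (D : CochainComplex (CochainComplex AddCommGrpCat.{u} ℕ) ℕ)

/-- The `p`-th column. -/
noncomputable abbrev col (p : ℕ) : CochainComplex AddCommGrpCat.{u} ℕ :=
  ((HomologicalComplex.eval AddCommGrpCat.{u} (.up ℕ) p).mapHomologicalComplex _).obj D

/-- The rows of the first page. -/
noncomputable abbrev pageRows (q : ℤ) : CochainComplex AddCommGrpCat.{u} ℤ :=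
  ((D.extend ComplexShape.embeddingUpNat).homology q).extend ComplexShape.embeddingUpNat

lemma isZero_pageRows_neg (q : ℤ) (hq : q < 0) :
    IsZero ((D.extend ComplexShape.embeddingUpNat).homology q) :=
  ShortComplex.isZero_homology_of_isZero_X₂ _
    (D.isZero_extend_X ComplexShape.embeddingUpNat q (fun i => by simp; lia))

lemma isZero_pageRows_X (p q : ℤ) (h : ¬ (0 ≤ p ∧ 0 ≤ q)) : IsZero ((pageRows D q).X p) := by
  by_cases hp : 0 ≤ p
  · refine IsZero.of_iso ?_ (HomologicalComplex.extendXIso _ ComplexShape.embeddingUpNat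
      (i := p.toNat) (by simp; lia))
    exact (HomologicalComplex.eval AddCommGrpCat.{u} (.up ℕ) p.toNat).map_isZero
      (isZero_pageRows_neg D q (by lia))
  · exact HomologicalComplex.isZero_extend_X _ ComplexShape.embeddingUpNat p (fun i => by simp; lia)

/-- The terms of the first page. -/
noncomputable def pageRowsXIso (p q : ℕ) : (pageRows D q).X p ≅ (col D p).homology q :=
  HomologicalComplex.extendXIso _ ComplexShape.embeddingUpNat (i := p) (by simp) ≪≫
    (HomologicalComplex.eval AddCommGrpCat.{u} (.up ℕ) p).mapIso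
      (D.extendHomologyIso ComplexShape.embeddingUpNat (j := q) (by simp)) ≪≫
    ((D.sc q).mapHomologyIso (HomologicalComplex.eval AddCommGrpCat.{u} (.up ℕ) p)).symm

/-- The complex of degree zero cohomology of the rows. -/
noncomputable abbrev rowsH0 : CochainComplex AddCommGrpCat.{u} ℕ :=
  ((HomologicalComplex.homologyFunctor AddCommGrpCat.{u} (.up ℕ) 0).mapHomologicalComplex _).obj D

/-- **The first-page spectral sequence of a double complex with exact rows.** -/
theorem exists_spectralSequence (hD : ∀ q p : ℕ, IsZero ((D.X q).homology (p + 1)))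
    (H : ℤ → AddCommGrpCat.{u}) (eH : ∀ n : ℕ, Nonempty ((rowsH0 D).homology n ≅ H n))
    (hH : ∀ n : ℤ, n < 0 → IsZero (H n)) (P : ℤ → ℤ → AddCommGrpCat.{u})
    (eP : ∀ p q : ℕ, Nonempty ((col D p).homology q ≅ P p q))
    (hP : ∀ p q : ℤ, ¬ (0 ≤ p ∧ 0 ≤ q) → IsZero (P p q)) :
    ∃ (E : CohomologicalSpectralSequence AddCommGrpCat.{u} 1) (a : SpSeq.Abutment E H),
      (∀ n, a.IsFinite n) ∧ SpSeq.IsBounded E ∧
      ∀ p q : ℤ, Nonempty ((E.page 1 le_rfl).X (p, q) ≅ P p q) := by
  let T := HomExt.homFunctor CxExt.X.{u}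
  let K : CochainComplex (CochainComplex AddCommGrpCat.{u} ℕ) ℤ := D.extend ComplexShape.embeddingUpNat
  haveI : K.IsStrictlyGE 0 := (CochainComplex.isStrictlyGE_iff K 0).2 fun i hi =>
    D.isZero_extend_X ComplexShape.embeddingUpNat i (fun j => by simp; lia)
  have hK : ∀ (k : ℤ) (p : ℕ), IsZero ((T.rightDerived (p + 1)).obj (K.X k)) := fun k p => by
    by_cases hk : 0 ≤ k
    · obtain ⟨e⟩ := CxExt.nonempty_rightDerived_iso (K.X k) (p + 1)
      refine IsZero.of_iso ?_ e
      exact (hD k.toNat p).of_iso ((HomologicalComplex.homologyFunctor _ _ (p + 1)).mapIso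
        (D.extendXIso ComplexShape.embeddingUpNat (i := k.toNat) (by simp; lia)))
    · obtain ⟨e⟩ := CxExt.nonempty_rightDerived_iso (K.X k) (p + 1)
      refine IsZero.of_iso ?_ e
      exact Functor.map_isZero (HomologicalComplex.homologyFunctor _ _ (p + 1))
        (D.isZero_extend_X ComplexShape.embeddingUpNat k (fun j => by simp; lia))
  let eT : ∀ n : ℕ, ((T.mapHomologicalComplex (.up ℤ)).obj K).homology n ≅ (rowsH0 D).homology n :=
    fun n => (HomologicalComplex.homologyFunctor _ _ (n : ℤ)).mapIso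
        (Composite.mapExtendIso T D) ≪≫
      ((T.mapHomologicalComplex (.up ℕ)).obj D).extendHomologyIso ComplexShape.embeddingUpNat
        (j := n) (by simp) ≪≫
      (HomologicalComplex.homologyFunctor _ _ n).mapIso
        ((NatIso.mapHomologicalComplex homIsoH0 _).app D)
  let eH' : ∀ n : ℤ, ((T.mapHomologicalComplex (.up ℤ)).obj K).homology n ≅ H n := fun n =>
    if h : n < 0 then
      (ShortComplex.isZero_homology_of_isZero_X₂ _ (T.map_isZero
        (CochainComplex.isZero_of_isStrictlyGE K 0 n h))).iso (hH n h)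
    else
      eqToIso (congrArg (fun m : ℤ => ((T.mapHomologicalComplex (.up ℤ)).obj K).homology m)
        (show n = (n.toNat : ℤ) by lia)) ≪≫ eT n.toNat ≪≫ (eH n.toNat).some ≪≫
      eqToIso (congrArg H (by lia))
  obtain ⟨E, a, hfin, -, he⟩ := Grothendieck.exists_spectralSequence T K hK H eH'
    (fun p q => (pageRows D q).homology p) (fun p q => by
      obtain ⟨e⟩ := CxExt.nonempty_rightDerived_iso (K.homology q) p
      exact ⟨e ≪≫ ((K.homology q).extendHomologyIso ComplexShape.embeddingUpNat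
        (j' := (p : ℤ)) (j := p) (by simp)).symm⟩)
    (fun p q h => ShortComplex.isZero_homology_of_isZero_X₂ _ (isZero_pageRows_X D p q h))
  let e : ∀ pq : ℤ × ℤ, (rowsPage (pageRows D)).homology pq ≅ (E.page 2 le_rfl).X pq :=
    fun pq => rowsPageHomologyIso _ pq.1 pq.2 ≪≫ (he pq.1 pq.2).some.symm
  refine ⟨prepend E (rowsPage (pageRows D)) e, abutment E _ e a,
    fun n => abutment_isFinite E _ e a n (hfin n),
    isBounded_of_quadrant E _ e fun p q h => isZero_pageRows_X D p q h, fun p q => ?_⟩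
  rw [prepend_page_one]
  by_cases h : 0 ≤ p ∧ 0 ≤ q
  · obtain ⟨e'⟩ := eP p.toNat q.toNat
    exact ⟨eqToIso (congrArg₂ (fun a b => (pageRows D b).X a) (by lia : p = (p.toNat : ℤ))
      (by lia : q = (q.toNat : ℤ))) ≪≫ pageRowsXIso D p.toNat q.toNat ≪≫ e' ≪≫
      eqToIso (congrArg₂ P (by lia) (by lia))⟩
  · exact ⟨(isZero_pageRows_X D p q h).iso (hP p q h)⟩

end Groth.Agent.H30.E1
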