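import Groth.Agent.H30.E1.Bicomplex
import Groth.Agent.H30.E1.AbQis
import Groth.Agent.H30.E1.Double

/-!
# The first-page spectral sequence of a bicomplex, abutting to its total complex

The column filtration is replaced by a double complex whose `p`-th column is the cone of
`F_{p+1} → F_p` and whose rows are contractible.
-/

set_option linter.style.haveILetI false

universe u

open CategoryTheory Limits

namespace Groth.Agent.H30.E1.Bicx

variable (D : Bicx.{u})

/-- The degree `p + q` part of the `p`-th step of the filtration. -/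
def A (p q : ℕ) : AddSubgroup D.G := D.W (p + q) ⊓ D.Fil p

variable {D}

lemma A_succ_le {p q : ℕ} : D.A (p + 1) q ≤ D.A p (q + 1) := fun _ hc =>
  ⟨fun i j h => hc.1 i j (by omega), fil_anti (Nat.le_succ p) hc.2⟩

lemma tot_mem_A {p q : ℕ} {c : D.G} (hc : c ∈ D.A p q) : D.tot c ∈ D.A p (q + 1) :=
  ⟨fun i j h => tot_mem_W hc.1 i j (by omega), tot_mem_Fil hc.2⟩

variable (D)

/-- The total differential on the filtration. -/
def dA (p q : ℕ) : D.A p q →+ D.A p (q + 1) :=
  (D.tot.comp (D.A p q).subtype).codRestrict _ fun c => tot_mem_A c.2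

/-- The inclusion of the next step. -/
def incA (p q : ℕ) : D.A (p + 1) q →+ D.A p (q + 1) := AddSubgroup.inclusion A_succ_le

variable {D}

lemma dA_coe (p q : ℕ) (c : D.A p q) : (dA D p q c : D.G) = D.tot c := rfl
lemma incA_coe (p q : ℕ) (c : D.A (p + 1) q) : (incA D p q c : D.G) = c := rfl

variable (D)

/-- The terms of the cone double complex. -/
abbrev C (p q : ℕ) : AddCommGrpCat.{u} := AddCommGrpCat.of (D.A p q × D.A (p + 1) q)

/-- The horizontal differential. -/
def ch (p q : ℕ) : C D p q ⟶ C D (p + 1) q :=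
  AddCommGrpCat.ofHom (AddMonoidHom.prod (AddMonoidHom.snd _ _) 0)

/-- The vertical differential. -/
def cv (p q : ℕ) : C D p q ⟶ C D p (q + 1) :=
  AddCommGrpCat.ofHom (((-1 : ℤ) ^ p) • AddMonoidHom.prod
    ((dA D p q).comp (AddMonoidHom.fst _ _) + (incA D p q).comp (AddMonoidHom.snd _ _))
    (-((dA D (p + 1) q).comp (AddMonoidHom.snd _ _))))

variable {D}

lemma ch_apply (p q : ℕ) (z : C D p q) : ch D p q z = (z.2, 0) := rfl

lemma cv_apply (p q : ℕ) (z : C D p q) :
    cv D p q z = ((-1 : ℤ) ^ p) • (dA D p q z.1 + incA D p q z.2, -(dA D (p + 1) q z.2)) := rfl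

lemma neg_one_smul_eq_zero {M : Type*} [AddCommGroup M] {p : ℕ} {x : M}
    (h : ((-1 : ℤ) ^ p) • x = 0) : x = 0 := by
  simpa [Hom.smul_neg_one_pow_self] using congrArg (((-1 : ℤ) ^ p) • ·) h

variable (D)

/-- The rows. -/
noncomputable def cRow (q : ℕ) : CochainComplex AddCommGrpCat.{u} ℕ :=
  CochainComplex.of (fun p => C D p q) (fun p => ch D p q) fun p => by
    ext z : 2; rfl

/-- The map of rows. -/
noncomputable def cRowMap (q : ℕ) : cRow D q ⟶ cRow D (q + 1) where
  f p := cv D p q
  comm' := by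
    rintro p _ rfl
    simp only [cRow, CochainComplex.of_d]
    ext z : 2
    refine Prod.ext (Subtype.ext ?_) (Subtype.ext ?_)
    · simp [ch, cv, pow_succ, dA_coe]
    · simp [ch, cv]

/-- The cone double complex. -/
noncomputable def cone : CochainComplex (CochainComplex AddCommGrpCat.{u} ℕ) ℕ :=
  CochainComplex.of (fun q => cRow D q) (cRowMap D) fun q => by
    ext p z : 3
    change cv D p (q + 1) (cv D p q z) = (0 : C D p (q + 2))
    refine Prod.ext (Subtype.ext ?_) (Subtype.ext ?_) <;>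
      simp [cv, dA_coe, incA_coe, tot_tot, map_zsmul]

/-- The total complex. -/
noncomputable def totCx : CochainComplex AddCommGrpCat.{u} ℕ :=
  CochainComplex.of (fun n => AddCommGrpCat.of (D.A 0 n)) (fun n => AddCommGrpCat.ofHom (dA D 0 n))
    fun n => by
      ext c : 2
      exact Subtype.ext (tot_tot _)

/-- The inclusion into the zeroth column. -/
noncomputable def augC (q : ℕ) : (totCx D).X q ⟶ (cRow D q).X 0 :=
  AddCommGrpCat.ofHom (AddMonoidHom.inl _ _)

lemma augC_d (q : ℕ) : augC D q ≫ (cRow D q).d 0 1 = 0 := by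
  simp only [cRow]
  ext c : 2
  rfl

/-- The comparison with the cohomology of the rows. -/
noncomputable def toRowsH0 (q : ℕ) : (totCx D).X q ⟶ (cRow D q).homology 0 :=
  (cRow D q).liftCycles (augC D q) 1 (by simp) (augC_d D q) ≫ (cRow D q).homologyπ 0

theorem isIso_toRowsH0 (q : ℕ) : IsIso (toRowsH0 D q) := by
  have : Mono (augC D q) := (AddCommGrpCat.mono_iff_injective _).2 fun a b h => congrArg Prod.fst h
  have hex : (ShortComplex.mk (augC D q) ((cRow D q).d 0 1) (augC_d D q)).Exact := by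
    rw [ShortComplex.ab_exact_iff]
    rintro ⟨x, y⟩ h
    have hy : y = 0 := by
      simp only [cRow] at h
      exact congrArg Prod.fst h
    subst hy
    exact ⟨x, rfl⟩
  let h := hex.fIsKernel
  let e := h.conePointUniqueUpToIso ((cRow D q).cyclesIsKernel 0 1 (by simp))
  have he : (cRow D q).liftCycles (augC D q) 1 (by simp) (augC_d D q) = e.hom := by
    rw [← cancel_mono ((cRow D q).iCycles 0), HomologicalComplex.liftCycles_i]
    exact (IsLimit.conePointUniqueUpToIso_hom_comp h _ WalkingParallelPair.zero).symm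
  rw [toRowsH0, he]
  haveI : IsIso ((cRow D q).homologyπ 0) :=
    (cRow D q).isIso_homologyπ 0 0 (by simp) ((cRow D q).shape 0 0 (by simp))
  infer_instance

lemma augC_naturality (q : ℕ) :
    augC D q ≫ (cRowMap D q).f 0 = (totCx D).d q (q + 1) ≫ augC D (q + 1) := by
  have e : (totCx D).d q (q + 1) = AddCommGrpCat.ofHom (dA D 0 q) := by simp [totCx]
  rw [e]
  ext c : 2
  change cv D 0 q ((c, 0) : C D 0 q) = ((dA D 0 q c, 0) : C D 0 (q + 1))
  refine Prod.ext (Subtype.ext ?_) (Subtype.ext ?_) <;> simp [cv, dA_coe]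

lemma toRowsH0_naturality (q : ℕ) :
    toRowsH0 D q ≫ HomologicalComplex.homologyMap (cRowMap D q) 0 =
      (totCx D).d q (q + 1) ≫ toRowsH0 D (q + 1) := by
  rw [toRowsH0, toRowsH0, Category.assoc, HomologicalComplex.homologyπ_naturality,
    ← Category.assoc, ← Category.assoc]
  congr 1
  rw [← cancel_mono ((cRow D (q + 1)).iCycles 0)]
  simp only [Category.assoc, HomologicalComplex.cyclesMap_i, HomologicalComplex.liftCycles_i,
    HomologicalComplex.liftCycles_i_assoc, augC_naturality]

/-- The rows in degree zero give the total complex. -/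
noncomputable def totIsoRowsH0 : totCx D ≅ E1.rowsH0 (cone D) :=
  HomologicalComplex.Hom.isoOfComponents (fun q => @asIso _ _ _ _ _ (isIso_toRowsH0 D q)) (by
    rintro q _ rfl
    simp only [asIso_hom, cone, E1.rowsH0, Functor.mapHomologicalComplex_obj_d,
      CochainComplex.of_d]
    exact toRowsH0_naturality D q)

/-- The columns. -/
noncomputable def colCx (p : ℕ) : CochainComplex AddCommGrpCat.{u} ℕ :=
  CochainComplex.of (fun q => D.X p q) (fun q => AddCommGrpCat.ofHom (D.v p q)) fun q => by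
    ext x : 2
    exact D.vv p q x

/-- Evaluation at the corner. -/
noncomputable def evalC (p : ℕ) : E1.col (cone D) p ⟶ colCx D p where
  f q := AddCommGrpCat.ofHom
    { toFun := fun z : D.A p q × D.A (p + 1) q => (z.1 : D.G) p q
      map_zero' := rfl
      map_add' := fun _ _ => rfl }
  comm' := by
    rintro q _ rfl
    simp only [cone, colCx, E1.col, Functor.mapHomologicalComplex_obj_d, CochainComplex.of_d]
    ext ⟨⟨x, hx⟩, ⟨y, hy⟩⟩ : 2
    change D.v p q (x p q) = (cv D p q (⟨x, hx⟩, ⟨y, hy⟩)).1.1 p (q + 1)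
    have hy0 : y p (q + 1) = 0 := hy.2 p _ (Nat.lt_succ_self p)
    rcases p with _ | p
    · simp [cv, tot_apply, dA_coe, incA_coe, hy0]
    · simp [cv, tot_apply, dA_coe, incA_coe, hy0, hx.2 p (q + 1) (Nat.lt_succ_self p),
        Hom.smul_neg_one_pow_self]

lemma single_mem_A (p q : ℕ) (x : D.X p q) : D.single p q x ∈ D.A p q :=
  ⟨single_mem_W p q x, single_mem_Fil p q x⟩

variable {D} in
lemma mem_A_succ {p q : ℕ} {c : D.G} (hc : c ∈ D.A p (q + 1)) (h : c p (q + 1) = 0) :
    c ∈ D.A (p + 1) q :=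
  ⟨fun i j hij => hc.1 i j (by omega), fun i j hi => by
    rcases Nat.lt_succ_iff_lt_or_eq.1 hi with hi | rfl
    · exact hc.2 i j hi
    · by_cases hj : j = q + 1
      · subst hj; exact h
      · exact hc.1 _ j (by omega)⟩

theorem isIso_evalC (p q : ℕ) : IsIso (HomologicalComplex.homologyMap (evalC D p) q) := by
  have key : ∀ z : D.X p q, D.v p q z = 0 →
      ∃ x : C D p q, cv D p q x = 0 ∧ x.1.1 p q = z := by
    intro z hz
    have hy : D.tot (D.single p q z) p (q + 1) = 0 := by rw [tot_single_v, hz, smul_zero]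
    let x : D.A p q := ⟨D.single p q z, single_mem_A D p q z⟩
    let y : D.A (p + 1) q := ⟨-D.tot (D.single p q z), neg_mem (mem_A_succ (tot_mem_A x.2) hy)⟩
    refine ⟨(x, y), Prod.ext (Subtype.ext ?_) (Subtype.ext ?_), single_self p q z⟩ <;>
      simp [cv, x, y, dA_coe, incA_coe, tot_tot]
  have hker : ∀ (x : C D p q), cv D p q x = 0 →
      D.tot x.1.1 + x.2.1 = 0 := fun x hx => by
    have := neg_one_smul_eq_zero ((cv_apply p q x).symm.trans hx)
    exact congrArg Subtype.val (congrArg Prod.fst this)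
  have hd : (E1.col (cone D) p).d q (q + 1) = cv D p q := by
    simp [E1.col, cone, cRowMap]
  have hd' : (colCx D p).d q (q + 1) = AddCommGrpCat.ofHom (D.v p q) := by simp [colCx]
  rcases q with _ | q
  · refine isIso_homologyMap_of_elements _ 0 0 1 (by simp) (by simp) (fun z hz => ?_) fun x hx h => ?_
    · obtain ⟨x, h1, h2⟩ := key z (by rw [hd'] at hz; exact hz)
      refine ⟨x, 0, by rw [hd]; exact h1, ?_⟩
      rw [map_zero, add_zero]
      exact h2
    · obtain ⟨b, hb⟩ := h
      rw [(colCx D p).shape 0 0 (by simp)] at hb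
      have hx0 : x.1.1 p 0 = 0 := hb.symm
      have hF : x.1.1 ∈ D.Fil (p + 1) := fun i j hi => by
        rcases Nat.lt_succ_iff_lt_or_eq.1 hi with hi | rfl
        · exact x.1.2.2 i j hi
        · by_cases hj : j = 0
          · subst hj; exact hx0
          · exact x.1.2.1 _ j (by omega)
      have h1 : x.1.1 = 0 := eq_zero_of_W_of_Fil x.1.2.1 hF (by omega)
      have h2 := hker x (by rw [hd] at hx; exact hx)
      rw [h1, map_zero, zero_add] at h2
      refine ⟨0, ?_⟩
      rw [map_zero]
      exact (Prod.ext (Subtype.ext h1) (Subtype.ext h2)).symm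
  · refine isIso_homologyMap_of_elements _ q (q + 1) (q + 1 + 1) (by simp) (by simp)
      (fun z hz => ?_) fun x hx h => ?_
    · obtain ⟨x, h1, h2⟩ := key z (by rw [hd'] at hz; exact hz)
      refine ⟨x, 0, by rw [hd]; exact h1, ?_⟩
      rw [map_zero, add_zero]
      exact h2
    · obtain ⟨b, hb⟩ := h
      have hb' : D.v p q b = x.1.1 p (q + 1) := by
        have e : (colCx D p).d q (q + 1) = AddCommGrpCat.ofHom (D.v p q) := by simp [colCx]
        rw [e] at hb
        exact hb
      have h2 := hker x (by rw [hd] at hx; exact hx)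
      let u : D.A p q := ⟨D.single p q (((-1 : ℤ) ^ p) • b), single_mem_A D p q _⟩
      have h1 : (x.1.1 - D.tot u.1) p (q + 1) = 0 := by
        rw [Pi.sub_apply, Pi.sub_apply, tot_single_v,
          show D.v p q (((-1 : ℤ) ^ p) • b) = ((-1 : ℤ) ^ p) • D.v p q b from map_zsmul _ _ _,
          Hom.smul_neg_one_pow_self, hb', sub_self]
      let y : D.A (p + 1) q := ⟨x.1.1 - D.tot u.1,
        mem_A_succ (sub_mem x.1.2 (tot_mem_A u.2)) h1⟩
      refine ⟨((-1 : ℤ) ^ p) • ((u, y) : C D p q), ?_⟩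
      have e : (E1.col (cone D) p).d q (q + 1) = cv D p q := by simp [E1.col, cone, cRowMap]
      rw [e]
      change cv D p q (((-1 : ℤ) ^ p) • ((u, y) : C D p q)) = (x : C D p (q + 1))
      rw [map_zsmul, cv_apply, Hom.smul_neg_one_pow_self]
      refine Prod.ext (Subtype.ext ?_) (Subtype.ext ?_)
      · simp [y, dA_coe, incA_coe]
      · have : x.2.1 = -D.tot x.1.1 := eq_neg_of_add_eq_zero_right h2
        simp [y, dA_coe, this, tot_tot]

theorem nonempty_colIso (p q : ℕ) :
    Nonempty ((E1.col (cone D) p).homology q ≅ (colCx D p).homology q) :=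
  ⟨@asIso _ _ _ _ _ (isIso_evalC D p q)⟩

theorem rows_exact (q p : ℕ) : IsZero (((cone D).X q).homology (p + 1)) := by
  refine (HomologicalComplex.exactAt_iff_isZero_homology _ _).1 ?_
  rw [HomologicalComplex.exactAt_iff' _ p (p + 1) (p + 1 + 1) (by simp) (by simp),
    ShortComplex.ab_exact_iff]
  rintro ⟨x, y⟩ h
  have e : ∀ m, ((cone D).X q).d m (m + 1) = ch D m q := fun m => by simp [cone, cRow]
  change ((cone D).X q).d (p + 1) (p + 1 + 1) (x, y) = 0 at h
  rw [e] at h
  have hy : y = 0 := congrArg Prod.fst h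
  subst hy
  refine ⟨((0, x) : C D p q), ?_⟩
  change ((cone D).X q).d p (p + 1) _ = _
  rw [e]
  rfl

/-- **The first-page spectral sequence of a bicomplex.** -/
theorem exists_spectralSequence (H : ℤ → AddCommGrpCat.{u})
    (eH : ∀ n : ℕ, Nonempty ((totCx D).homology n ≅ H n))
    (hH : ∀ n : ℤ, n < 0 → IsZero (H n)) (P : ℤ → ℤ → AddCommGrpCat.{u})
    (eP : ∀ p q : ℕ, Nonempty ((colCx D p).homology q ≅ P p q))
    (hP : ∀ p q : ℤ, ¬ (0 ≤ p ∧ 0 ≤ q) → IsZero (P p q)) :
    ∃ (E : CohomologicalSpectralSequence AddCommGrpCat.{u} 1) (a : SpSeq.Abutment E H),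
      (∀ n, a.IsFinite n) ∧ SpSeq.IsBounded E ∧
      ∀ p q : ℤ, Nonempty ((E.page 1 le_rfl).X (p, q) ≅ P p q) :=
  E1.exists_spectralSequence (cone D) (rows_exact D) H
    (fun n => ⟨(HomologicalComplex.homologyFunctor _ _ n).mapIso (totIsoRowsH0 D).symm ≪≫
      (eH n).some⟩) hH P
    (fun p q => ⟨(nonempty_colIso D p q).some ≪≫ (eP p q).some⟩) hP

end Groth.Agent.H30.E1.Bicx
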