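import Groth.Prelude.Def_SpSeq
import Mathlib.Data.Int.Interval
import Mathlib.Order.Interval.Finset.Basic

/-!
# Prepending a page to a spectral sequence
-/

universe v u

open CategoryTheory Limits

namespace Groth.Agent.H30.E1

variable {C : Type u} [Category.{v} C] [Abelian C]

/-- The shape of the `r`-th page. -/
abbrev pageShape (r : ℤ) : ComplexShape (ℤ × ℤ) := ComplexShape.up' ((r, 1 - r) : ℤ × ℤ)

section Rows

variable (R : ℤ → CochainComplex C ℤ)

lemma rel_one {pq pq' : ℤ × ℤ} (h : (pageShape 1).Rel pq pq') :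
    pq.2 = pq'.2 ∧ pq.1 + 1 = pq'.1 := by
  obtain rfl : pq + (1, 1 - 1) = pq' := h
  simp

/-- The page with given rows and horizontal differentials. -/
noncomputable def rowsPage : HomologicalComplex C (pageShape 1) where
  X pq := (R pq.2).X pq.1
  d pq pq' := if h : pq.2 = pq'.2 then
      (R pq.2).d pq.1 pq'.1 ≫ eqToHom (by rw [h]) else 0
  shape pq pq' h := by
    split_ifs with h'
    · rw [(R pq.2).shape _ _ (fun e => h (by
        change pq + (1, 1 - 1) = pq'
        exact Prod.ext (e : pq.1 + 1 = pq'.1) (by simp [h']))), zero_comp]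
    · rfl
  d_comp_d' := by
    rintro ⟨a, b⟩ ⟨a', b'⟩ ⟨a'', b''⟩ h h'
    obtain rfl : b = b' := (rel_one h).1
    obtain rfl : b = b'' := (rel_one h').1
    simp

lemma rowsPage_d (a a' b : ℤ) : (rowsPage R).d (a, b) (a', b) = (R b).d a a' := by
  simp [rowsPage]

/-- The homology of a page given by rows. -/
noncomputable def rowsPageHomologyIso (p q : ℤ) :
    (rowsPage R).homology (p, q) ≅ (R q).homology p :=
  (rowsPage R).homologyIsoSc' (p - 1, q) (p, q) (p + 1, q)
    ((pageShape 1).prev_eq' (by change ((p - 1, q) : ℤ × ℤ) + (1, 1 - 1) = (p, q); simp))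
    ((pageShape 1).next_eq' (by change ((p, q) : ℤ × ℤ) + (1, 1 - 1) = (p + 1, q); simp)) ≪≫
  ShortComplex.homologyMapIso (ShortComplex.isoMk (S₁ := (rowsPage R).sc' (p - 1, q) (p, q) (p + 1, q))
    (S₂ := (R q).sc' (p - 1) p (p + 1))
    (Iso.refl ((R q).X (p - 1))) (Iso.refl ((R q).X p)) (Iso.refl ((R q).X (p + 1)))
    ((Category.id_comp _).trans ((rowsPage_d R (p - 1) p q).symm.trans (Category.comp_id _).symm))
    ((Category.id_comp _).trans ((rowsPage_d R p (p + 1) q).symm.trans (Category.comp_id _).symm))) ≪≫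
  ((R q).homologyIsoSc' (p - 1) p (p + 1) (by simp) (by simp)).symm

end Rows

variable (E : E₂CohomologicalSpectralSequence C) (P : HomologicalComplex C (pageShape 1))
  (e : ∀ pq : ℤ × ℤ, P.homology pq ≅ (E.page 2 le_rfl).X pq)

/-- The pages after prepending `P`. -/
noncomputable def prependPage (r : ℤ) (hr : 1 ≤ r) : HomologicalComplex C (pageShape r) :=
  if h : r = 1 then h ▸ P else E.page r (by lia)

lemma prependPage_of_two_le (r : ℤ) (hr : 2 ≤ r) :
    prependPage E P r (by lia) = E.page r hr := dif_neg (by lia)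

lemma prependPage_one : prependPage E P 1 le_rfl = P := dif_pos rfl

/-- The spectral sequence with `P` prepended. -/
noncomputable def prepend : CohomologicalSpectralSequence C 1 where
  page r hr := prependPage E P r hr
  iso r r' pq hrr' hr :=
    if h : r = 1 then
      eqToIso (by subst h; rw [prependPage_one]) ≪≫ e pq ≪≫ eqToIso (by
        obtain rfl : r' = 2 := by lia
        rw [prependPage_of_two_le E P 2 le_rfl])
    else
      eqToIso (by rw [prependPage_of_two_le E P r (by lia)]) ≪≫
        E.iso r r' pq hrr' (by lia) ≪≫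
        eqToIso (by rw [prependPage_of_two_le E P r' (by lia)])

lemma prepend_page_one : (prepend E P e).page 1 le_rfl = P := prependPage_one E P

lemma prepend_page (r : ℤ) (hr : 2 ≤ r) : (prepend E P e).page r (by lia) = E.page r hr :=
  prependPage_of_two_le E P r hr

lemma stationaryAt_prepend (pq : ℤ × ℤ) (r : ℤ) (h : SpSeq.StationaryAt E pq r) :
    SpSeq.StationaryAt (prepend E P e) pq r := by
  refine ⟨(by have := h.1; lia), fun r' h₀ hr => ?_⟩
  have h2 : 2 ≤ r' := by have := h.1; lia
  rw [prepend_page E P e r' h2]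
  exact h.2 r' h2 hr

/-- The abutment after prepending. -/
noncomputable def abutment {H : ℤ → C} (a : SpSeq.Abutment E H) :
    SpSeq.Abutment (prepend E P e) H where
  fil := a.fil
  anti := a.anti
  rk := a.rk
  stat pq := stationaryAt_prepend E P e pq _ (a.stat pq)
  β pq := eqToIso (by rw [prepend_page E P e (a.rk pq) (a.stat pq).1]) ≪≫ a.β pq

lemma abutment_isFinite {H : ℤ → C} (a : SpSeq.Abutment E H) (n : ℤ) (h : a.IsFinite n) :
    (abutment E P e a).IsFinite n :=
  h

lemma isBounded_of_quadrant (h : ∀ p q : ℤ, ¬ (0 ≤ p ∧ 0 ≤ q) → IsZero (P.X (p, q))) :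
    SpSeq.IsBounded (prepend E P e) := fun n => by
  refine (Set.finite_Icc (a := (0 : ℤ)) (b := n)).subset fun p hp => ?_
  by_contra hn
  refine hp ?_
  rw [prepend_page_one]
  exact h p (n - p) (by simp only [Set.mem_Icc] at hn; lia)

end Groth.Agent.H30.E1
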